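import Cfsg.Agent.Lib.Cert.S62s.UV

set_option autoImplicit false
set_option maxRecDepth 100000

namespace Cfsg.Agent.Ct.S62s.V0

open Cfsg.Agent.PC

open Cfsg.Agent.Fi Cfsg.Agent.Ct
def Ef_t : TN := (TN.node (TN.node (TN.leaf (nat_lit 0x32413b304c343e38294f0c2f274823201b1d1f0f16041012192a030800140b06b1add5d9a3d19b99c3ba8de88beabee4afb8b2bdc179dec6d3c8ddcd9094cbeeceec68637296e6885c82e2e0a5b555b780dad6a1514d9d8f494a4ec46d70a775457643ab413fa83d399f373331922d867b847d7e256e6a6664601f5e5a1a58560f52200b0c46142b3a073512052319032e2728011c161008ecefa7a5c4a1e1e29691d6cfdbb98994d8c9bbccb2e7aeb7b573cad4c0bec765c3926167eae85fe4845b5987dfd1addc6e5357d2989f626c746b787b477fbc4b8f817c5da8b083aaa2689c9a8a3f8c33393c704276254937544d344e403b502c11311a13214409260d172b0f1c05282e181e032201140a06efedb2afe6b5e3e1cfcdda97d6b69488dfddbc91a6c4a5b9a0ca72c1d4e5ea93e9656760c6c37bbe5a848758d9d2b1c96a5752d09b9c6970776ea35e7f46ba807c4b8e83abad5ca878629e988d548a504f416d447448254d3e363b393c353231132d1f10264322202b1d0c0a17062f28021a180814000e04e3e1aaadd7a2eeec9b9cc498e68f8c8b87857f9ea9dbb17c7976756f6b7a67c265e8ebc66193e55fc9ddded95957a45bd4d3d053cecc7068cac1b5bebdba4783b85cb681b2ae4aa6a06d90969433883e31456341724c374851251d2d4217544e1b38111f223c2709283a2e1434190c2a051306200b0e0102))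 (TN.leaf (nat_lit 0xb0acd4d8a2d09a98c2bb8ce98aebbfe5aeb9b3bcc078dfc7d2c9dccc9195caefcfed69627397e7895d83e3e1a4b454b681dbd7a0504c9c8e484b4fc56c71a674447742aa403ea93c389e363230932c877a857c7f246f6b6765611e5f5b1b59570e53210a0d47152a3b063413042218022f2629001d171109edeea6a4c5a0e0e39790d7cedab88895d9c8bacdb3e6afb6b472cbd5c1bfc664c2936066ebe95ee5855a5886ded0acdd6f5256d3999e636d))) (TN.leaf (nat_lit 0x756a797a467ebd4a8e807d5ca9b182aba3699d9b8b3e8d32383d714377244836554c354f413a512d10301b12204508270c162a0e1d04292f191f022300150b07e2e0abacd6a3efed9a9dc599e78e8d8a86847e9fa8dab07d7877746e6a7b66c364e9eac76092e45ec8dcdfd85856a55ad5d2d152cfcd7169cbc0b4bfbcbb4682b95db780b3af4ba7a16c91979532893f30446240734d364950241c2c4316554f1a39101e233d2608293b2f1535180d2b041207210a0f0003efedb2e9d6d1e2e0deccc5d8e6cbbee5cedcd590a6dbc372d2b7b9bbbd88eab0afac6661c6a58b945a849b9996a092c87e78a3b4879c4c488e46528c6b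6ec04474427740aa643ca957369e595f557a502c8224807c706c683f621d305c1632380f4e150a084a2123063b0410342b02182f0028261e1a120cdaedebe9e0ade2e6dddfee8ad69a9cd0cecccb7c78c576c0bcbeab888566afa8b3e5bbb07e5ea2a19fd2d4996e8692528c8ed8b894b74a62a6c846c6c274655c96696b6db4738060a470595b572e902a2826823b7a3422201e1c491a16441210540c504e4c0842403e3c3804361432300f2c00240718020aedefa4a6c5cbe1e39097d7cddb88b8b6c8d9e5ceafe7b39572b4a0d2d0bcc367c7609365e8ea7eba87585a84ddc1abde526f6ad49f98636ca25676467a5ebe4b8d808a5cb1a983ac74689a9c7c518e552d3671247843453d)))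
noncomputable def Ef (i : ℕ) : ℕ := get9 Ef_t (nat_lit 8) (nat_lit 255) i
noncomputable def E (j c : ℕ) : ℕ := Ef (Nat.add (Nat.mul j (nat_lit 120)) c)
def iw (i : ℕ) : ℕ := Nat.land (Nat.shiftRight (nat_lit 0x3206549817) (Nat.mul (nat_lit 4) i)) (nat_lit 15)
def a (i : ℕ) : ℕ := Nat.land (Nat.shiftRight (nat_lit 1) (Nat.mul (nat_lit 1) i)) (nat_lit 1)
def ws : List (List ℕ × ℕ) := [([nat_lit 0, nat_lit 1, nat_lit 0, nat_lit 1], (nat_lit 1)), ([nat_lit 0, nat_lit 2, nat_lit 0, nat_lit 2], (nat_lit 1)), ([nat_lit 1, nat_lit 2, nat_lit 1, nat_lit 2], (nat_lit 1)), ([nat_lit 0, nat_lit 3, nat_lit 0, nat_lit 3, nat_lit 0, nat_lit 3], (nat_lit 0)), ([nat_lit 0, nat_lit 2, nat_lit 3, nat_lit 0, nat_lit 2, nat_lit 3, nat_lit 0, nat_lit 2, nat_lit 3], (nat_lit 1)), ([nat_lit 1, nat_lit 2, nat_lit 3, nat_lit 1, nat_lit 2, nat_lit 3], (nat_lit 1)), ([nat_lit 0, nat_lit 4, nat_lit 0, nat_lit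 4], (nat_lit 1)), ([nat_lit 1, nat_lit 4, nat_lit 1, nat_lit 4], (nat_lit 0)), ([nat_lit 2, nat_lit 4, nat_lit 2, nat_lit 4], (nat_lit 0)), ([nat_lit 3, nat_lit 4, nat_lit 3, nat_lit 4, nat_lit 3, nat_lit 4, nat_lit 3, nat_lit 4], (nat_lit 1)), ([nat_lit 2, nat_lit 3, nat_lit 4, nat_lit 2, nat_lit 3, nat_lit 4, nat_lit 2, nat_lit 3, nat_lit 4, nat_lit 2, nat_lit 3, nat_lit 4], (nat_lit 1)), ([nat_lit 3, nat_lit 5, nat_lit 3, nat_lit 5, nat_lit 3, nat_lit 5, nat_lit 3, nat_lit 5], (nat_lit 1)), ([nat_lit 0, nat_lit 4, nat_lit 5, nat_lit 0, nat_lit 4, nat_lit 5], (nat_lit 0)), ([nat_lit 2, nat_lit 4, nat_lit 5, nat_lit 2, nat_lit 4, nat_lit 5], (nat_lit 0)), ([nat_lit 5, nat_lit 0, nat_lit 5, nat_lit 3, nat_lit 4, nat_lit 3, nat_lit 4, nat_lit 0, nat_lit 1, nat_lit 3, nat_lit 4, nat_lit 3, nat_lit 0, nat_lit 2], (nat_lit 0)), ([nat_lit 5, nat_lit 1, nat_lit 5, nat_lit 1, nat_lit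 2, nat_lit 4], (nat_lit 0)), ([nat_lit 5, nat_lit 3, nat_lit 5, nat_lit 0, nat_lit 5, nat_lit 3, nat_lit 5, nat_lit 0], (nat_lit 1)), ([nat_lit 5, nat_lit 3, nat_lit 1, nat_lit 3, nat_lit 5, nat_lit 3, nat_lit 1, nat_lit 3, nat_lit 5, nat_lit 3, nat_lit 1, nat_lit 3], (nat_lit 1)), ([nat_lit 5, nat_lit 3, nat_lit 4, nat_lit 3, nat_lit 5, nat_lit 3, nat_lit 4, nat_lit 3, nat_lit 5, nat_lit 0, nat_lit 2, nat_lit 3, nat_lit 4, nat_lit 3, nat_lit 1, nat_lit 0], (nat_lit 0)), ([nat_lit 0, nat_lit 6, nat_lit 0, nat_lit 6], (nat_lit 0)), ([nat_lit 2, nat_lit 6, nat_lit 2, nat_lit 6], (nat_lit 1)), ([nat_lit 3, nat_lit 6, nat_lit 3, nat_lit 6], (nat_lit 0)), ([nat_lit 5, nat_lit 6, nat_lit 5, nat_lit 6, nat_lit 5, nat_lit 6], (nat_lit 0)), ([nat_lit 6, nat_lit 4, nat_lit 6, nat_lit 1, nat_lit 4], (nat_lit 1)), ([nat_lit 0, nat_lit 0], (nat_lit 1)), ([nat_lit 1, nat_lit 1], (nat_lit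 0)), ([nat_lit 2, nat_lit 2], (nat_lit 1)), ([nat_lit 3, nat_lit 3], (nat_lit 1)), ([nat_lit 4, nat_lit 4], (nat_lit 0)), ([nat_lit 5, nat_lit 5], (nat_lit 0)), ([nat_lit 6, nat_lit 6], (nat_lit 0)), ([nat_lit 6, nat_lit 8, nat_lit 5, nat_lit 9, nat_lit 5, nat_lit 6, nat_lit 8, nat_lit 5, nat_lit 6, nat_lit 4, nat_lit 9, nat_lit 4, nat_lit 5, nat_lit 9, nat_lit 5, nat_lit 8, nat_lit 6, nat_lit 5, nat_lit 9, nat_lit 5, nat_lit 1, nat_lit 9, nat_lit 1, nat_lit 6, nat_lit 2, nat_lit 6, nat_lit 5, nat_lit 3, nat_lit 5, nat_lit 2, nat_lit 6, nat_lit 6, nat_lit 1, nat_lit 3, nat_lit 1, nat_lit 5, nat_lit 3, nat_lit 5, nat_lit 6, nat_lit 2, nat_lit 5, nat_lit 3, nat_lit 5, nat_lit 4, nat_lit 3, nat_lit 4, nat_lit 6, nat_lit 5], (nat_lit 1))]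
noncomputable def f1 : ℕ → ℕ := permE (mT E (nat_lit 2)) iw (nat_lit 240) (nat_lit 10)
noncomputable def f2 : ℕ → ℕ := scE E (nat_lit 2) ws
theorem ca0 : Nat.beq (rng f1 (nat_lit 0) (nat_lit 240)) (nat_lit 0) = true := by decide +kernel
theorem cb0 : Nat.beq (rng f2 (nat_lit 0) (nat_lit 120)) (nat_lit 0) = true := by decide +kernel
theorem h1 : ∀ i < 240, f1 i = 0 := by
  have h := zero_lt_zero f1
  have h := zero_lt_add (a := (nat_lit 0)) (n := (nat_lit 240)) (b := (nat_lit 240)) h ca0 rfl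
  exact h
theorem h2 : ∀ i < 120, f2 i = 0 := by
  have h := zero_lt_zero f2
  have h := zero_lt_add (a := (nat_lit 0)) (n := (nat_lit 120)) (b := (nat_lit 120)) h cb0 rfl
  exact h
theorem cov : Cov (fun j => j) S62.rels 7 U V [2] := cov_of (M := 239) (N := 120) rfl (by decide +kernel) h1 h2 a (by decide +kernel)

end Cfsg.Agent.Ct.S62s.V0
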